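import Cfsg.Agent.H992.MU.Pin
import Cfsg.Agent.H40.OC.Cor
import Cfsg.Agent.Nodes.RGDLib

/-!
# The root group datum of a normal subgroup containing `U` (S4829, Row2; helper992)

`rgd_restr` : a normal subgroup `S` containing the positive root groups inherits the root group datum (with the
representatives `n i * t i` in `S`), its group is everything, and its `B` and parabolic subgroups are the
intersections with `S`.
-/

set_option autoImplicit false
set_option linter.unusedSectionVars false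

namespace Cfsg.Agent.H992.R2

open Cfsg Cfsg.Agent.H53.HC Cfsg.Agent.H641.Gow Cfsg.Agent.H40.OC

open CoxeterSystem Cfsg.Agent.ChevalleyStructure.CoxeterGeom Cfsg.Agent.Tits.Roots Cfsg.Agent.Tits.Core
  Cfsg.Agent.Nodes.Reps Cfsg.Agent.Nodes.BNOf Cfsg.Agent.Nodes.Bruhat Cfsg.Agent.Nodes.LeviDec
  Cfsg.Agent.Nodes.StabComb Cfsg.Agent.Nodes.OppDec Cfsg.Agent.Nodes.RGDLib

variable {I W Y : Type*} [Fintype I] [DecidableEq I] [Group W] [Group Y] {M : CoxeterMatrix I}
  {cs : CoxeterSystem M W} {A : I → I → ℤ} {h : IsCartan M A} {p : ℕ} {T : Subgroup Y} {n : I → Y}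
  {X : (I → ℤ) → Subgroup Y}

/-- a normal subgroup containing the positive root groups contains all root groups -/
theorem X_le_of_UU_le (R : RGD cs h p T n X) {S : Subgroup Y} [S.Normal] (hUS : UU cs h X ≤ S) {x : I → ℤ}
    (hx : IsRoot cs h x) : X x ≤ S := by
  obtain ⟨w, i, rfl⟩ := hx
  obtain ⟨g, hg⟩ := exists_rp cs R.nsys w
  intro y hy
  have h1 := R.conj_mem' hg ⟨w, i, rfl⟩ hy
  rw [rep_inv_apply] at h1
  have h2 : g⁻¹ * y * g ∈ S := hUS (RGD.le_Sup (X := X) (S := RGD.Pos cs h) ⟨isRoot_sr cs h i, sr_nonneg i⟩ h1)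
  have h3 : y = g * (g⁻¹ * y * g) * g⁻¹ := by group
  rw [h3]
  exact Subgroup.Normal.conj_mem inferInstance _ h2 g

/-- the torus normalizes the group generated by a set of root groups -/
theorem T_le_norm_Sup (R : RGD cs h p T n X) {Z : Set (I → ℤ)} (hZ : ∀ x ∈ Z, IsRoot cs h x) :
    T ≤ Subgroup.normalizer (RGD.Sup X Z : Set Y) := by
  intro t ht
  rw [mem_normalizer_iff_cj]
  have key : ∀ s ∈ T, cj s (RGD.Sup X Z) ≤ RGD.Sup X Z := by
    intro s hs
    unfold RGD.Sup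
    rw [show cj s (⨆ z : Z, X z.1) = ⨆ z : Z, cj s (X z.1) from Subgroup.map_iSup _ _]
    refine iSup_le fun z => ?_
    rw [R.tor z.1 (hZ z.1 z.2) s hs]
    exact le_iSup (fun z : Z => X z.1) z
  refine le_antisymm (key t ht) ?_
  intro y hy
  rw [mem_cj]
  have h1 := key t⁻¹ (inv_mem ht)
  have h2 : t⁻¹ * y * t⁻¹⁻¹ ∈ cj t⁻¹ (RGD.Sup X Z) := by
    rw [mem_cj]
    have : t⁻¹⁻¹ * (t⁻¹ * y * t⁻¹⁻¹) * t⁻¹ = y := by group
    rw [this]
    exact hy
  have h3 := h1 h2
  rwa [inv_inv] at h3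

/-- the groups `T ⊔ Sup X Z` intersected with `S` -/
theorem subgroupOf_T_sup (R : RGD cs h p T n X) {S : Subgroup Y} (hX : ∀ x, IsRoot cs h x → X x ≤ S)
    {Z : Set (I → ℤ)} (hZ : ∀ x ∈ Z, IsRoot cs h x) :
    T.subgroupOf S ⊔ RGD.Sup (fun x => (X x).subgroupOf S) Z = (T ⊔ RGD.Sup X Z).subgroupOf S := by
  have hS : RGD.Sup (fun x => (X x).subgroupOf S) Z = (RGD.Sup X Z).subgroupOf S :=
    (iSup_subgroupOf (K := S) (fun z : Z => X z.1) (fun z => hX z.1 (hZ z.1 z.2))).symm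
  have hle : RGD.Sup X Z ≤ S := RGD.Sup_le fun z hz => hX z (hZ z hz)
  rw [hS]
  apply le_antisymm
  · refine sup_le ?_ ?_
    · exact Subgroup.comap_mono le_sup_left
    · exact Subgroup.comap_mono le_sup_right
  · intro x hx
    rw [Subgroup.mem_subgroupOf] at hx
    obtain ⟨t, ht, g, hg, e⟩ := Cfsg.Agent.H992.MU.exists_mul_of_norm (T_le_norm_Sup R hZ) hx
    have hgS : g ∈ S := hle hg
    have htS : t ∈ S := by
      have : t = x * g⁻¹ := by rw [e]; group
      rw [this]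
      exact mul_mem x.2 (inv_mem hgS)
    have : x = (⟨t, htS⟩ : S) * ⟨g, hgS⟩ := Subtype.ext e
    rw [this]
    exact mul_mem (Subgroup.mem_sup_left (Subgroup.mem_subgroupOf.2 ht))
      (Subgroup.mem_sup_right (Subgroup.mem_subgroupOf.2 hg))

theorem Sup_union {X : (I → ℤ) → Subgroup Y} (Z Z' : Set (I → ℤ)) :
    RGD.Sup X (Z ∪ Z') = RGD.Sup X Z ⊔ RGD.Sup X Z' := by
  apply le_antisymm
  · refine RGD.Sup_le fun z hz => ?_
    rcases hz with hz | hz
    · exact le_sup_of_le_left (RGD.le_Sup hz)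
    · exact le_sup_of_le_right (RGD.le_Sup hz)
  · exact sup_le (RGD.Sup_le fun z hz => RGD.le_Sup (Or.inl hz)) (RGD.Sup_le fun z hz => RGD.le_Sup (Or.inr hz))

/-- representatives in `S` of the simple reflections -/
theorem exists_repr (R : RGD cs h p T n X) {S : Subgroup Y} (hX : ∀ x, IsRoot cs h x → X x ≤ S) (i : I) :
    ∃ t ∈ T, n i * t ∈ S := by
  have h1 : ∃ u ∈ X (-sr i), u ≠ 1 := by
    by_contra hc
    push Not at hc
    have h2 : X (-sr i) = ⊥ := (Subgroup.eq_bot_iff_forall _).2 hc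
    refine R.notp i ?_
    rw [h2, sup_bot_eq]
    exact R.pgrp i
  obtain ⟨u, hu, hne⟩ := h1
  obtain ⟨a, ha, t, ht, b, hb, e⟩ := R.rk1 i u hu hne
  refine ⟨(n i)⁻¹ * t * n i, ?_, ?_⟩
  · have h3 := (R.nsys.norm i)
    have h4 := (Subgroup.mem_normalizer_iff.1 (inv_mem h3) t).1 ht
    rwa [inv_inv] at h4
  · have h5 : n i * ((n i)⁻¹ * t * n i) = a⁻¹ * u * b⁻¹ := by rw [e]; group
    rw [h5]
    exact mul_mem (mul_mem (inv_mem (hX _ (isRoot_sr cs h i) ha)) (hX _ (isRoot_sr cs h i).neg hu))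
      (inv_mem (hX _ (isRoot_sr cs h i) hb))

/-- **The root group datum of a normal subgroup containing `U`.** -/
theorem rgd_restr (R : RGD cs h p T n X) (hG : GG cs h T X = ⊤)
    {S : Subgroup Y} [S.Normal] (hUS : UU cs h X ≤ S) : ∃ n' : I → S, (∀ i, ∃ t ∈ T, (n' i : Y) = n i * t) ∧
      RGD cs h p (T.subgroupOf S) n' (fun x => (X x).subgroupOf S) ∧
      GG cs h (T.subgroupOf S) (fun x => (X x).subgroupOf S) = ⊤ ∧
      RGD.B cs h (T.subgroupOf S) (fun x => (X x).subgroupOf S) = (RGD.B cs h T X).subgroupOf S ∧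
      ∀ J : Set I, PJ cs h (T.subgroupOf S) (fun x => (X x).subgroupOf S) J = (PJ cs h T X J).subgroupOf S := by
  have hX : ∀ x, IsRoot cs h x → X x ≤ S := fun x hx => X_le_of_UU_le R hUS hx
  choose t ht hS using fun i => exists_repr R hX i
  have hrp : ∀ i, Rp cs R.nsys (cs.simple i) (n i * t i) := fun i => (rp_simple cs R.nsys i).mul_mem_right (ht i)
  refine ⟨fun i => ⟨n i * t i, hS i⟩, fun i => ⟨t i, ht i, rfl⟩, ?_, ?_, ?_, ?_⟩
  · exact rgd_restrict (Cfsg.Agent.H992.MU.rgd_chn R hrp) S hX hS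
  · have h1 := subgroupOf_T_sup R hX (Z := {x | IsRoot cs h x}) (fun x hx => hx)
    unfold GG at hG ⊢
    rw [h1, hG]
    exact Subgroup.subgroupOf_eq_top.2 le_top
  · exact subgroupOf_T_sup R hX (Z := RGD.Pos cs h) (fun x hx => hx.1)
  · intro J
    unfold PJ LJ VJ
    rw [sup_assoc, sup_assoc, ← Sup_union, ← Sup_union]
    refine subgroupOf_T_sup R hX (fun x hx => ?_)
    rcases hx with hx | hx
    · exact hx.1
    · exact hx.1

end Cfsg.Agent.H992.R2
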